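import Cfsg.Agent.Lib.RankOneFF.Pair
import Cfsg.Agent.Lib.Cores.Basic

/-!
# A Sylow subgroup in a unique maximal subgroup with a moved fixed point

`T` is a Sylow `p`-subgroup of `H`, every proper overgroup of `T` lies in `M` and some vector fixed
by `T` is moved by `H`.  With `O_p(H) = 1`: normal subgroups inside `M` have order prime to `p`,
`M` is self-normalising, stabilisers of moved `T`-fixed vectors lie in `M`.
-/

set_option autoImplicit false
set_option linter.unusedSectionVars false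

namespace Cfsg.Agent.Lib.NoStrict

open Cfsg.Agent.Lib.RankOneFF (fixW mem_fixW cjS mem_cjS conj_mem_cjS card_cjS mem_fixW_cjS
  card_fixW_cjS)

variable {H : Type*} [Group H] {W : Type*} [AddCommGroup W] [DistribMulAction H W]

/-- All proper overgroups of `A` lie in `M`. -/
def OnlyIn (A M : Subgroup H) : Prop := ∀ Y : Subgroup H, A ≤ Y → Y ≠ ⊤ → Y ≤ M

/-- The hypotheses. -/
structure PMin (p : ℕ) (W : Type*) [AddCommGroup W] [DistribMulAction H W] (T : Sylow p H)
    (M : Subgroup H) : Prop where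
  ne_top : M ≠ ⊤
  sylow_le : (T : Subgroup H) ≤ M
  only : OnlyIn (T : Subgroup H) M
  moved : ∃ u ∈ fixW W (T : Subgroup H), ∃ h : H, h • u ≠ u

open scoped Pointwise

variable [Finite H] {p : ℕ} [Fact p.Prime] {T : Sylow p H} {M : Subgroup H}

omit [Finite H] in
/-- Stabilisers of moved fixed vectors of `T` lie in `M`. -/
theorem PMin.stab_le (h : PMin p W T M) {u : W} (hu : u ∈ fixW W (T : Subgroup H)) {g : H}
    (hg : g • u ≠ u) : MulAction.stabilizer H u ≤ M := by
  refine h.only _ (fun t ht => hu t ht) fun e => hg ?_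
  have : g ∈ MulAction.stabilizer H u := e ▸ Subgroup.mem_top g
  exact this

/-- A normal subgroup inside `M` meets `T` in `O_p(H)`. -/
theorem PMin.inf_normal_le (h : PMin p W T M) {N : Subgroup H} [hN : N.Normal] (hNM : N ≤ M) :
    (T : Subgroup H) ⊓ N ≤ Cfsg.pCore p H := by
  set D := (T : Subgroup H) ⊓ N with hD
  have hDT : (T : Subgroup H) ≤ Subgroup.normalizer (D : Set H) := by
    intro t (ht : t ∈ (T : Subgroup H))
    rw [Subgroup.mem_normalizer_iff]
    intro x
    constructor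
    · rintro ⟨(hxT : _ ∈ (T : Subgroup H)), (hxN : _ ∈ N)⟩
      exact Subgroup.mem_inf.2 ⟨mul_mem (mul_mem ht hxT) (inv_mem ht), hN.conj_mem x hxN t⟩
    · rintro ⟨(hxT : _ ∈ (T : Subgroup H)), (hxN : _ ∈ N)⟩
      have h1 := mul_mem (mul_mem (inv_mem ht) hxT) ht
      have h2 := hN.conj_mem _ hxN t⁻¹
      rw [show t⁻¹ * (t * x * t⁻¹) * t = x by group] at h1
      rw [show t⁻¹ * (t * x * t⁻¹) * t⁻¹⁻¹ = x by group] at h2
      exact Subgroup.mem_inf.2 ⟨h1, h2⟩
  by_cases htop : Subgroup.normalizer (D : Set H) = ⊤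
  · have : D.Normal := Subgroup.normalizer_eq_top_iff.1 htop
    exact Cores.le_pCore (T.2.to_le inf_le_left)
  · exfalso
    obtain ⟨P, hP⟩ : ∃ P : Sylow p N, (P : Subgroup N).map N.subtype = D := by
      have hDp : IsPGroup p (D.subgroupOf N) :=
        (T.2.to_le (inf_le_left : D ≤ T)).of_equiv (Subgroup.subgroupOfEquivOfLe inf_le_right).symm
      obtain ⟨P, hP⟩ := hDp.exists_le_sylow
      refine ⟨P, ?_⟩
      set P' := (P : Subgroup N).map N.subtype with hP'
      have hle : D ≤ P' := by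
        intro x hx
        exact ⟨⟨x, hx.2⟩, hP (Subgroup.mem_subgroupOf.2 hx), rfl⟩
      obtain ⟨R, hR⟩ := (P.2.map N.subtype).exists_le_sylow
      obtain ⟨g, rfl⟩ := MulAction.exists_smul_eq H T R
      have h2 : P' ≤ cjS g D := by
        intro x hx
        rw [mem_cjS]
        have hxR : x ∈ cjS g (T : Subgroup H) := hR hx
        exact ⟨mem_cjS.1 hxR, hN.conj_mem' x (Subgroup.map_subtype_le _ hx) g⟩
      exact (Subgroup.eq_of_le_of_card_ge hle
        ((Subgroup.card_le_of_le h2).trans (card_cjS g D).le)).symm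
    have hf := Sylow.normalizer_sup_eq_top P
    rw [hP] at hf
    exact h.ne_top (top_le_iff.1 (hf ▸ sup_le (h.only _ hDT htop) hNM))

variable (hO : Cfsg.pCore p H = ⊥)

include hO in
/-- With trivial `p`-core a `p`-subgroup of a normal subgroup inside `M` is trivial. -/
theorem PMin.eq_bot_of_le_normal (h : PMin p W T M) {N : Subgroup H} [hN : N.Normal] (hNM : N ≤ M)
    {A : Subgroup H} (hA : IsPGroup p A) (hAN : A ≤ N) : A = ⊥ := by
  obtain ⟨R, hR⟩ := hA.exists_le_sylow
  obtain ⟨g, rfl⟩ := MulAction.exists_smul_eq H T R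
  refine (Subgroup.eq_bot_iff_forall A).2 fun x hx => ?_
  have hxR : x ∈ cjS g (T : Subgroup H) := hR hx
  have h1 : g⁻¹ * x * g ∈ Cfsg.pCore p H :=
    h.inf_normal_le hNM ⟨mem_cjS.1 hxR, hN.conj_mem' x (hAN hx) g⟩
  rw [hO, Subgroup.mem_bot] at h1
  calc x = g * (g⁻¹ * x * g) * g⁻¹ := by group
    _ = 1 := by rw [h1]; group

include hO in
/-- `M` is self-normalising. -/
theorem PMin.mem_of_normalizes (h : PMin p W T M) (hne : (T : Subgroup H) ≠ ⊥) {g : H}
    (hg : g ∈ Subgroup.normalizer (M : Set H)) : g ∈ M := by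
  refine h.only _ (h.sylow_le.trans Subgroup.le_normalizer) (fun e => hne ?_) hg
  have : M.Normal := Subgroup.normalizer_eq_top_iff.1 e
  exact h.eq_bot_of_le_normal hO le_rfl T.2 h.sylow_le

/-- A `p`-subgroup of `M` is conjugate into `T` by an element of `M`. -/
theorem PMin.exists_conj_le (h : PMin p W T M) {P : Subgroup H} (hP : IsPGroup p P) (hPM : P ≤ M) :
    ∃ m ∈ M, cjS m P ≤ (T : Subgroup H) := by
  have hPM' : IsPGroup p (P.subgroupOf M) := hP.of_equiv (Subgroup.subgroupOfEquivOfLe hPM).symm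
  obtain ⟨R, hR⟩ := hPM'.exists_le_sylow
  obtain ⟨m, hm⟩ := MulAction.exists_smul_eq M R (T.subtype h.sylow_le)
  refine ⟨(m : H), m.2, ?_⟩
  rintro _ ⟨x, hx, rfl⟩
  have h1 : m * (⟨x, hPM hx⟩ : M) * m⁻¹ ∈ ((m • R : Sylow p M) : Subgroup M) := by
    rw [Sylow.coe_subgroup_smul, Subgroup.mem_smul_pointwise_iff_exists]
    exact ⟨⟨x, hPM hx⟩, hR hx, rfl⟩
  rw [hm] at h1
  exact h1

end Cfsg.Agent.Lib.NoStrict
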