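import Cfsg.Agent.Lib.RankOneFF.Pair

/-!
# Timmesfeld replacement for one vector

For commutative `A` and a vector `v` let `A_v` consist of the elements of `A` fixing every
`a v - v`.  Then `|A| |C_W(A)| ≤ |A_v| |C_W(A_v)|`; so if no proper subgroup does as well as `A`,
then `A` acts quadratically.  Also the action of `H ⧸ N` on the fixed points of `N`.
-/

set_option autoImplicit false

namespace Cfsg.Agent.Lib.NoStrict

open Cfsg.Agent.Lib.RankOneFF (fixW mem_fixW)

variable {H : Type*} [Group H] {W : Type*} [AddCommGroup W] [DistribMulAction H W]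

/-- The elements of `A` fixing `[v, A]`. -/
def fixComm (A : Subgroup H) (v : W) : Subgroup H where
  carrier := {a | a ∈ A ∧ ∀ b ∈ A, a • (b • v - v) = b • v - v}
  mul_mem' := fun {x y} hx hy => ⟨A.mul_mem hx.1 hy.1, fun b hb => by
    rw [mul_smul, hy.2 b hb, hx.2 b hb]⟩
  one_mem' := ⟨A.one_mem, fun b _ => one_smul H _⟩
  inv_mem' := fun {x} hx => ⟨A.inv_mem hx.1, fun b hb => by
    conv_lhs => rw [← hx.2 b hb]
    rw [inv_smul_smul]⟩

theorem fixComm_le (A : Subgroup H) (v : W) : fixComm A v ≤ A := fun _ h => h.1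

variable [Finite H] [Finite W]

theorem card_mul_le_fixComm {A : Subgroup H} (hcomm : ∀ a ∈ A, ∀ b ∈ A, a * b = b * a) (v : W) :
    Nat.card A * Nat.card (fixW W A) ≤
      Nat.card (fixComm A v) * Nat.card (fixW W (fixComm A v)) := by
  classical
  set B := (fixComm A v).subgroupOf A with hB
  have hr : ∀ a : A, ((QuotientGroup.mk a : A ⧸ B).out)⁻¹ * a ∈ B := fun a =>
    QuotientGroup.eq.1 (Quotient.out_eq' _)
  let f : A × fixW W A → fixComm A v × fixW W (fixComm A v) := fun x =>
    (⟨_, Subgroup.mem_subgroupOf.1 (hr x.1)⟩, ⟨(x.1 : H) • v - v + (x.2 : W), fun d hd => by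
      rw [smul_add, hd.2 _ x.1.2, x.2.2 d hd.1]⟩)
  have hf : Function.Injective f := by
    rintro ⟨a, c⟩ ⟨b, c'⟩ he
    have h1 : ((((QuotientGroup.mk a : A ⧸ B).out)⁻¹ * a : A) : H) =
        ((((QuotientGroup.mk b : A ⧸ B).out)⁻¹ * b : A) : H) :=
      congrArg (fun z => ((z.1 : fixComm A v) : H)) he
    have h2 : (a : H) • v - v + (c : W) = (b : H) • v - v + (c' : W) :=
      congrArg (fun z => ((z.2 : fixW W (fixComm A v)) : W)) he
    set d : H := (b : H)⁻¹ * a with hd
    have hdA : d ∈ A := A.mul_mem (A.inv_mem b.2) a.2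
    have hz : d • v - v = (c' : W) - c := by
      have h0 : (a : H) • v = (b : H) • v + ((c' : W) - c) := by
        calc (a : H) • v = ((a : H) • v - v + (c : W)) + (v - (c : W)) := by abel
          _ = ((b : H) • v - v + (c' : W)) + (v - (c : W)) := by rw [h2]
          _ = _ := by abel
      rw [hd, mul_smul, h0, smul_add, inv_smul_smul,
        (sub_mem c'.2 c.2 : (c' : W) - c ∈ fixW W A) _ (A.inv_mem b.2)]
      abel
    have hdB : d ∈ fixComm A v := by
      refine ⟨hdA, fun x hx => ?_⟩
      have hdv : d • v = v + ((c' : W) - c) := by rw [← hz]; abel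
      rw [smul_sub, ← mul_smul, hcomm d hdA x hx, mul_smul, hdv, smul_add,
        (sub_mem c'.2 c.2 : (c' : W) - c ∈ fixW W A) _ hx]
      abel
    have hmk : (QuotientGroup.mk b : A ⧸ B) = QuotientGroup.mk a :=
      QuotientGroup.eq.2 (Subgroup.mem_subgroupOf.2 hdB)
    rw [hmk] at h1
    have hab : a = b := mul_left_cancel (Subtype.ext h1)
    subst hab
    exact Prod.ext rfl (Subtype.ext (add_left_cancel h2))
  have h := Nat.card_le_card_of_injective f hf
  rwa [Nat.card_prod, Nat.card_prod] at h

omit [Finite H] [Finite W] in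
/-- The fixed points of a normal subgroup are invariant. -/
theorem smul_mem_fixW (N : Subgroup H) [hN : N.Normal] (g : H) {w : W} (hw : w ∈ fixW W N) :
    g • w ∈ fixW W N := fun n hn => by
  rw [← mul_smul, show n * g = g * (g⁻¹ * n * g) by group, mul_smul, hw _ (hN.conj_mem' n hn g)]

variable (W) in
/-- `H ⧸ N` on the fixed points of `N`. -/
def quotHom (N : Subgroup H) [N.Normal] : H ⧸ N →* AddMonoid.End (fixW W N) :=
  QuotientGroup.lift N
    { toFun := fun g => AddMonoidHom.mk' (fun w => ⟨g • (w : W), smul_mem_fixW N g w.2⟩)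
        fun a b => Subtype.ext (smul_add g (a : W) b)
      map_one' := AddMonoidHom.ext fun w => Subtype.ext (one_smul H (w : W))
      map_mul' := fun a b => AddMonoidHom.ext fun w => Subtype.ext (mul_smul a b (w : W)) }
    fun n hn => AddMonoidHom.ext fun w => Subtype.ext (w.2 n hn)

variable (W) in
/-- The action of `H ⧸ N` on the fixed points of `N`. -/
@[reducible] def quotAct (N : Subgroup H) [N.Normal] : DistribMulAction (H ⧸ N) (fixW W N) :=
  DistribMulAction.compHom _ (quotHom W N)

end Cfsg.Agent.Lib.NoStrict
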