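import Cfsg.Agent.Lib.NoStrict.Regular
import Cfsg.Agent.Lib.NoStrict.Replacement

/-!
# No strict offenders

`T` is a Sylow `p`-subgroup of `H` contained in a unique maximal subgroup, some fixed vector of `T`
is moved and `O_p(H) = 1`.  Then `|A| |C_W(A)| ≤ |W|` for every abelian `p`-subgroup `A`.
-/

set_option autoImplicit false
set_option linter.unusedSectionVars false

namespace Cfsg.Agent.Lib.NoStrict

open Cfsg.Agent.Lib.RankOneFF (fixW mem_fixW cjS mem_cjS conj_mem_cjS card_cjS mem_fixW_cjS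
  card_fixW_cjS card_add_mul_card_inf)

universe u v

variable {H : Type u} [Group H] [Finite H] {W : Type v} [AddCommGroup W] [DistribMulAction H W]
  {p : ℕ} [Fact p.Prime] {T : Sylow p H} {M : Subgroup H}

/-- A minimal strict offender. -/
structure IsMinStrict (p : ℕ) (W : Type*) [AddCommGroup W] [DistribMulAction H W] (A : Subgroup H) :
    Prop where
  pgroup : IsPGroup p A
  comm : ∀ a ∈ A, ∀ b ∈ A, a * b = b * a
  gt : Nat.card W < Nat.card A * Nat.card (fixW W A)
  minimal : ∀ B : Subgroup H, B < A → Nat.card B * Nat.card (fixW W B) ≤ Nat.card W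

theorem IsMinStrict.ne_bot [Finite W] {A : Subgroup H} (h : IsMinStrict p W A) : A ≠ ⊥ := by
  rintro rfl
  have h1 := h.gt
  rw [Subgroup.card_bot, one_mul] at h1
  exact absurd (Nat.card_le_card_of_injective _ Subtype.val_injective) (not_le.2 h1)

theorem IsMinStrict.conj {A : Subgroup H} (h : IsMinStrict p W A) (g : H) :
    IsMinStrict p W (cjS g A) where
  pgroup := h.pgroup.map _
  comm a ha b hb := by
    have := h.comm _ (mem_cjS.1 ha) _ (mem_cjS.1 hb)
    rw [show a = g * (g⁻¹ * a * g) * g⁻¹ by group, show b = g * (g⁻¹ * b * g) * g⁻¹ by group]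
    rw [show ∀ x y : H, g * x * g⁻¹ * (g * y * g⁻¹) = g * (x * y) * g⁻¹ from
      fun x y => by group, this]
    group
  gt := by rw [card_cjS, card_fixW_cjS]; exact h.gt
  minimal B hB := by
    have h1 : cjS g⁻¹ B < A := by
      have h2 : cjS g⁻¹ (cjS g A) = A := by
        rw [cjS_cjS, inv_mul_cancel]
        ext x; simp
      refine lt_of_le_of_ne ((Subgroup.map_mono hB.le).trans h2.le) fun e => hB.ne ?_
      exact Subgroup.map_injective (MulAut.conj g⁻¹).injective (e.trans h2.symm)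
    have := h.minimal _ h1
    rwa [card_cjS, card_fixW_cjS] at this

/-- A minimal strict offender is quadratic. -/
theorem IsMinStrict.quad [Finite W] {A : Subgroup H} (h : IsMinStrict p W A) :
    ∀ a ∈ A, ∀ w : W, a • w - w ∈ fixW W A := by
  intro a ha w d hd
  by_contra hne
  have hlt : fixComm A w < A := lt_of_le_of_ne (fixComm_le A w) fun e => hne <| by
    have : d ∈ fixComm A w := e.symm ▸ hd
    exact this.2 a ha
  exact absurd ((card_mul_le_fixComm h.comm w).trans (h.minimal _ hlt)) (not_le.2 h.gt)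

/-- Every abelian `p`-subgroup `A` has `|A| |C_W(A)| ≤ |W|`. -/
theorem PMin.no_strict [Finite W] (h : PMin p W T M) (hO : Cfsg.pCore p H = ⊥) {A : Subgroup H}
    (hA : IsPGroup p A) (hcomm : ∀ a ∈ A, ∀ b ∈ A, a * b = b * a) :
    Nat.card A * Nat.card (fixW W A) ≤ Nat.card W := by
  induction hn : Nat.card H using Nat.strong_induction_on generalizing H W T M A with
  | _ n ih =>
  subst hn
  by_contra hcon
  push Not at hcon
  obtain ⟨A₀, ⟨hA₀le, hA₀⟩, hmin⟩ := Set.exists_min_image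
    {B : Subgroup H | B ≤ A ∧ Nat.card W < Nat.card B * Nat.card (fixW W B)}
    (fun B => Nat.card B) (Set.toFinite _) ⟨A, le_rfl, hcon⟩
  have hmem : IsMinStrict p W A₀ := by
    refine ⟨hA.to_le hA₀le, fun a ha b hb => hcomm a (hA₀le ha) b (hA₀le hb), hA₀,
      fun B hB => ?_⟩
    by_contra h1
    push Not at h1
    exact hB.ne (Subgroup.eq_of_le_of_card_ge hB.le (hmin B ⟨hB.le.trans hA₀le, h1⟩))
  obtain ⟨R, hR⟩ := hmem.pgroup.exists_le_sylow
  obtain ⟨g, rfl⟩ := MulAction.exists_smul_eq H T R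
  set A₁ := cjS g⁻¹ A₀ with hA₁
  have hmem₁ : IsMinStrict p W A₁ := hmem.conj g⁻¹
  have hA₁M : A₁ ≤ M := by
    refine le_trans ?_ h.sylow_le
    intro x hx
    rw [hA₁, mem_cjS, inv_inv] at hx
    have h1 : g * x * g⁻¹ ∈ cjS g (T : Subgroup H) := hR hx
    rw [mem_cjS] at h1
    rwa [show g⁻¹ * (g * x * g⁻¹) * g = x by group] at h1
  suffices honly : OnlyIn A₁ M from
    absurd (h.card_mul_le hO hmem₁.pgroup hmem₁.ne_bot hA₁M honly hmem₁.quad) (not_le.2 hmem₁.gt)
  refine h.descend hO (Φ := IsMinStrict p W) (fun B g hB => hB.conj g) (fun B hB => hB.pgroup)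
    (fun B hB => hB.ne_bot) ?_ hmem₁ hA₁M
  intro X P hX hXM hPX hPM hPp hdiv hsub B hB hBP
  set Q : Subgroup X := Cfsg.pCore p X with hQ
  let := quotAct W Q
  have hsmul : ∀ (x : X) (w : fixW W Q),
      (((QuotientGroup.mk x : X ⧸ Q) • w : fixW W Q) : W) = (x : H) • (w : W) := fun _ _ => rfl
  have hP' : IsPGroup p (P.subgroupOf X) := hPp.of_equiv (Subgroup.subgroupOfEquivOfLe hPX).symm
  set PX : Sylow p X := hP'.toSylow hdiv with hPXdef
  have hQP : Q ≤ P.subgroupOf X := Cores.pCore_le_sylow PX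
  set π : X →* X ⧸ Q := QuotientGroup.mk' Q with hπ
  set T' : Sylow p (X ⧸ Q) := PX.mapSurjective (f := π) (QuotientGroup.mk'_surjective Q) with hT'
  have hT'c : (T' : Subgroup (X ⧸ Q)) = (P.subgroupOf X).map π := rfl
  set M' : Subgroup (X ⧸ Q) := (M.subgroupOf X).map π with hM'
  obtain ⟨u, hu, k, hk⟩ := h.moved
  obtain ⟨m, hm, hPT⟩ := h.exists_conj_le hPp hPM
  have hu'P : ∀ y ∈ P, y • (m⁻¹ • u) = m⁻¹ • u := fun y hy =>
    (mem_fixW_cjS.1 fun a ha => hu a (hPT ha)) y hy
  have hu'Q : m⁻¹ • u ∈ fixW W Q := fun q hq => hu'P (q : H) (Subgroup.mem_subgroupOf.1 (hQP hq))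
  have hPMin : PMin p (fixW W Q) T' M' := by
    refine ⟨fun e => hXM ?_, ?_, fun Y hPY hY => ?_, ⟨⟨m⁻¹ • u, hu'Q⟩, ?_, ?_⟩⟩
    · have h1 : (M.subgroupOf X) ⊔ Q = ⊤ := by
        have := congrArg (Subgroup.comap π) e
        rwa [hM', Subgroup.comap_map_eq, Subgroup.comap_top, QuotientGroup.ker_mk'] at this
      have h2 : Q ≤ M.subgroupOf X := fun q hq =>
        Subgroup.mem_subgroupOf.2 (hPM (Subgroup.mem_subgroupOf.1 (hQP hq)))
      rw [sup_eq_left.2 h2, Subgroup.subgroupOf_eq_top] at h1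
      exact h1
    · rw [hT'c]
      exact Subgroup.map_mono fun y hy => Subgroup.mem_subgroupOf.2 (hPM (Subgroup.mem_subgroupOf.1 hy))
    · rw [hT'c] at hPY
      have h1 : (Y.comap π).map X.subtype ≤ M := by
        refine hsub _ (fun y hy => ⟨⟨y, hPX hy⟩, ?_, rfl⟩) (Subgroup.map_subtype_le _) fun e => hY ?_
        · exact hPY (Subgroup.mem_map_of_mem π (Subgroup.mem_subgroupOf.2 hy))
        · have h2 : Y.comap π = ⊤ := by
            refine top_le_iff.1 fun x _ => ?_
            obtain ⟨x', hx', hxe⟩ : (x : H) ∈ (Y.comap π).map X.subtype := e.symm ▸ x.2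
            exact (Subtype.ext hxe : x' = x) ▸ hx'
          exact top_le_iff.1 ((Subgroup.map_comap_eq_self_of_surjective
            (QuotientGroup.mk'_surjective Q) Y).symm ▸ by
              rw [h2, Subgroup.map_top_of_surjective _ (QuotientGroup.mk'_surjective Q)])
      intro y hy
      obtain ⟨x, rfl⟩ := QuotientGroup.mk'_surjective Q y
      exact Subgroup.mem_map_of_mem π (Subgroup.mem_subgroupOf.2 (h1 ⟨x, hy, rfl⟩))
    · rintro _ ⟨y, hy, rfl⟩
      exact Subtype.ext (hu'P (y : H) (Subgroup.mem_subgroupOf.1 hy))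
    · by_contra hcon'
      push Not at hcon'
      refine hXM fun x hx => ?_
      have h1 : x • (m⁻¹ • u) = m⁻¹ • u :=
        congrArg Subtype.val (hcon' (QuotientGroup.mk (⟨x, hx⟩ : X)))
      have h2 : m * x * m⁻¹ ∈ MulAction.stabilizer H u := by
        rw [MulAction.mem_stabilizer_iff, mul_smul, mul_smul, h1, smul_inv_smul]
      have h3 := M.mul_mem (M.mul_mem (M.inv_mem hm) (h.stab_le hu hk h2)) hm
      rwa [show m⁻¹ * (m * x * m⁻¹) * m = x by group] at h3
  have hcard : Nat.card (X ⧸ Q) < Nat.card H := by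
    refine lt_of_le_of_lt (Nat.card_le_card_of_surjective _ (QuotientGroup.mk'_surjective Q))
      (lt_of_le_of_ne ?_ fun e => hX (Subgroup.eq_top_of_card_eq X e))
    exact Nat.card_le_card_of_injective _ X.subtype_injective
  have hBX : B ≤ X := hBP.trans hPX
  set B' : Subgroup (X ⧸ Q) := (B.subgroupOf X).map π with hB'
  have key : Nat.card B' * Nat.card (fixW (fixW W Q) B') ≤ Nat.card (fixW W Q) := by
    refine ih _ hcard hPMin (Cores.pCore_quotient_pCore (G := X) p)
      ((hB.pgroup.of_equiv (Subgroup.subgroupOfEquivOfLe hBX).symm).map π) ?_ rfl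
    rintro _ ⟨a, ha, rfl⟩ _ ⟨b, hb, rfl⟩
    rw [← map_mul, ← map_mul]
    exact congrArg π (Subtype.ext (hB.comm _ (Subgroup.mem_subgroupOf.1 ha) _
      (Subgroup.mem_subgroupOf.1 hb)))
  set B₀ : Subgroup H := B ⊓ Q.map X.subtype with hB₀
  rcases eq_or_lt_of_le (inf_le_left : B₀ ≤ B) with he | hlt
  · exact inf_eq_left.1 he
  exfalso
  -- `|B₀| |B'| = |B|`
  have hprod : Nat.card B₀ * Nat.card B' = Nat.card B := by
    set φ := π.comp (B.subgroupOf X).subtype with hφ
    have h1 : φ.range = B' := by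
      rw [hφ, MonoidHom.range_comp, Subgroup.range_subtype]
    have h2 : Nat.card φ.ker = Nat.card B₀ := Nat.card_congr
      { toFun := fun a => ⟨((a : B.subgroupOf X) : X), Subgroup.mem_subgroupOf.1 (a : B.subgroupOf X).2,
          _, (QuotientGroup.eq_one_iff _).1 a.2, rfl⟩
        invFun := fun b => ⟨⟨⟨b, hBX b.2.1⟩, Subgroup.mem_subgroupOf.2 b.2.1⟩, by
          obtain ⟨q, hq, hqe⟩ := b.2.2
          refine (QuotientGroup.eq_one_iff _).2 ?_
          exact (Subtype.ext hqe : q = ⟨(b : H), hBX b.2.1⟩) ▸ hq⟩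
        left_inv := fun a => rfl
        right_inv := fun b => rfl }
    rw [← h2, ← h1, ← Subgroup.index_ker φ, Subgroup.card_mul_index,
      Nat.card_congr (Subgroup.subgroupOfEquivOfLe hBX).toEquiv]
  set C : AddSubgroup W := fixW W B with hC
  have hfix : Nat.card ↥(C ⊓ fixW W Q) ≤ Nat.card (fixW (fixW W Q) B') := by
    refine Nat.card_le_card_of_injective
      (fun w => (⟨⟨(w : W), w.2.2⟩, ?_⟩ : fixW (fixW W Q) B')) fun a b e =>
        Subtype.ext (congrArg (fun z : fixW (fixW W Q) B' => ((z : fixW W Q) : W)) e)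
    rintro _ ⟨y, hy, rfl⟩
    exact Subtype.ext (w.2.1 (y : H) (Subgroup.mem_subgroupOf.1 hy))
  have hrange : Nat.card ((C.subtype.coprod (fixW W Q).subtype).range) ≤
      Nat.card (fixW W B₀) := by
    refine Nat.card_le_card_of_injective
      (fun w => (⟨(w : W), ?_⟩ : fixW W B₀)) fun a b e =>
        Subtype.ext (congrArg Subtype.val e : _)
    obtain ⟨w, ⟨c, q⟩, rfl⟩ := w
    intro a ha
    obtain ⟨x, hx, hxe⟩ := (Subgroup.mem_inf.1 ha).2
    show a • ((c : W) + (q : W)) = (c : W) + (q : W)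
    have hq2 : a • (q : W) = q := by rw [← hxe]; exact q.2 x hx
    rw [smul_add, c.2 a (Subgroup.mem_inf.1 ha).1, hq2]
  have hsum := card_add_mul_card_inf C (fixW W Q)
  have hlt' := lt_of_le_of_lt (hB.minimal B₀ hlt) hB.gt
  rw [← hC] at hlt'
  have hpos : 0 < Nat.card (fixW (fixW W Q) B') := Nat.card_pos
  have h1 : Nat.card B₀ * (Nat.card C * Nat.card (fixW W Q)) <
      Nat.card (fixW (fixW W Q) B') * (Nat.card B * Nat.card C) :=
    calc Nat.card B₀ * (Nat.card C * Nat.card (fixW W Q))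
        = Nat.card B₀ * (Nat.card ((C.subtype.coprod (fixW W Q).subtype).range) *
            Nat.card ↥(C ⊓ fixW W Q)) := by rw [hsum]
      _ ≤ Nat.card B₀ * (Nat.card (fixW W B₀) * Nat.card (fixW (fixW W Q) B')) :=
          Nat.mul_le_mul_left _ (Nat.mul_le_mul hrange hfix)
      _ = Nat.card (fixW (fixW W Q) B') * (Nat.card B₀ * Nat.card (fixW W B₀)) := by ring
      _ < _ := Nat.mul_lt_mul_of_pos_left hlt' hpos
  have h2 : Nat.card (fixW (fixW W Q) B') * (Nat.card B * Nat.card C) ≤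
      Nat.card B₀ * (Nat.card C * Nat.card (fixW W Q)) := by
    calc Nat.card (fixW (fixW W Q) B') * (Nat.card B * Nat.card C)
        = Nat.card B₀ * Nat.card C * (Nat.card B' * Nat.card (fixW (fixW W Q) B')) := by
          rw [← hprod]; ring
      _ ≤ Nat.card B₀ * Nat.card C * Nat.card (fixW W Q) := Nat.mul_le_mul_left _ key
      _ = _ := by ring
  exact absurd h2 (not_le.2 h1)

end Cfsg.Agent.Lib.NoStrict
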