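import Cfsg.Agent.Lib.NoStrict.Basic
import Cfsg.Agent.Lib.Fusion.Alperin

/-!
# Descent to subgroups outside `M`

A family of nontrivial `p`-subgroups, closed under conjugation, such that in every proper subgroup
`X` outside `M` with a Sylow subgroup `P ≤ M` contained in a unique maximal subgroup of `X` the
members inside `P` lie in `O_p(X)`.  Then every member inside `M` has no proper overgroup outside
`M`: otherwise take such `P` of largest order; the members inside `P` generate a nontrivial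
`p`-subgroup normalised by `X` and by a larger subgroup of `M`.
-/

set_option autoImplicit false
set_option linter.unusedSectionVars false

namespace Cfsg.Agent.Lib.NoStrict

open Cfsg.Agent.Lib.RankOneFF (cjS mem_cjS conj_mem_cjS card_cjS)
open scoped Pointwise

variable {H : Type*} [Group H] [Finite H] {W : Type*} [AddCommGroup W] [DistribMulAction H W]
  {p : ℕ} [Fact p.Prime] {T : Sylow p H} {M : Subgroup H}

omit [Finite H] in
theorem cjS_cjS (g k : H) (A : Subgroup H) : cjS g (cjS k A) = cjS (g * k) A := by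
  rw [cjS, Subgroup.map_map]
  congr 1
  ext x
  simp [MonoidHom.comp_apply, mul_assoc]

omit [Finite H] in
theorem cjS_not_le {m : H} (hm : m ∈ M) {Y : Subgroup H} (hY : ¬ Y ≤ M) : ¬ cjS m Y ≤ M := by
  intro hle
  refine hY fun y hy => ?_
  have h1 := M.mul_mem (M.mul_mem (M.inv_mem hm) (hle (conj_mem_cjS hy))) hm
  rwa [show m⁻¹ * (m * y * m⁻¹) * m = y by group] at h1

theorem cjS_ne_top (m : H) {Y : Subgroup H} (hY : Y ≠ ⊤) : cjS m Y ≠ ⊤ := fun h => hY
  (Subgroup.eq_top_of_card_eq Y (by rw [← card_cjS m Y, h, Subgroup.card_top]))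

/-- The descent. -/
theorem PMin.descend (h : PMin p W T M) (hO : Cfsg.pCore p H = ⊥) {Φ : Subgroup H → Prop}
    (hconj : ∀ A g, Φ A → Φ (cjS g A)) (hp : ∀ A, Φ A → IsPGroup p A) (hne : ∀ A, Φ A → A ≠ ⊥)
    (hloc : ∀ X P : Subgroup H, X ≠ ⊤ → ¬ X ≤ M → P ≤ X → P ≤ M → IsPGroup p P →
      ¬ p ∣ P.relIndex X → (∀ Z, P ≤ Z → Z ≤ X → Z ≠ X → Z ≤ M) →
      ∀ A, Φ A → A ≤ P → A ≤ (Cfsg.pCore p X).map X.subtype)
    {A : Subgroup H} (hA : Φ A) (hAM : A ≤ M) : OnlyIn A M := by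
  classical
  intro Y hAY hY
  by_contra hYM
  set Good : Set (Subgroup H) :=
    {P | P ≤ (T : Subgroup H) ∧ (∃ B, Φ B ∧ B ≤ P) ∧ ∃ Z : Subgroup H, Z ≠ ⊤ ∧ ¬ Z ≤ M ∧ P ≤ Z}
    with hGood
  have move : ∀ (B P Z : Subgroup H), Φ B → B ≤ P → IsPGroup p P → P ≤ M → Z ≠ ⊤ → ¬ Z ≤ M →
      P ≤ Z → ∃ P' ∈ Good, Nat.card P' = Nat.card P := by
    intro B P Z hB hBP hPp hPM hZ hZM hPZ
    obtain ⟨m, hm, hle⟩ := h.exists_conj_le hPp hPM
    exact ⟨cjS m P, ⟨hle, ⟨cjS m B, hconj B m hB, Subgroup.map_mono hBP⟩,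
      ⟨cjS m Z, cjS_ne_top m hZ, cjS_not_le hm hZM, Subgroup.map_mono hPZ⟩⟩, card_cjS m P⟩
  obtain ⟨P₀, hP₀, -⟩ := move A A Y hA le_rfl (hp A hA) hAM hY hYM hAY
  obtain ⟨P, ⟨hPT, ⟨B, hB, hBP⟩, Z, hZ, hZM, hPZ⟩, hmax⟩ :=
    Set.exists_max_image Good (fun P => Nat.card P) (Set.toFinite _) ⟨P₀, hP₀⟩
  obtain ⟨X, ⟨hPX, hXZ, hXM⟩, hmin⟩ := Set.exists_min_image
    {X : Subgroup H | P ≤ X ∧ X ≤ Z ∧ ¬ X ≤ M} (fun X => Nat.card X) (Set.toFinite _)
    ⟨Z, hPZ, le_rfl, hZM⟩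
  have hX : X ≠ ⊤ := fun e => hZ (top_le_iff.1 (e ▸ hXZ))
  have hPp : IsPGroup p P := T.2.to_le hPT
  have hPM : P ≤ M := hPT.trans h.sylow_le
  have hsub : ∀ Y', P ≤ Y' → Y' ≤ X → Y' ≠ X → Y' ≤ M := by
    intro Y' h1 h2 h3
    by_contra h4
    exact h3 (Subgroup.eq_of_le_of_card_ge h2 (hmin Y' ⟨h1, h2.trans hXZ, h4⟩))
  have hPlt : P < (T : Subgroup H) :=
    lt_of_le_of_ne hPT fun e => hXM (h.only X (e ▸ hPX) hX)
  -- a normal `p`-subgroup `Q ≤ P` of `X` containing the members inside `P`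
  obtain ⟨Q, hQP, hQn, hQ⟩ : ∃ Q : Subgroup H, Q ≤ P ∧ X ≤ Subgroup.normalizer (Q : Set H) ∧
      ∀ B, Φ B → B ≤ P → B ≤ Q := by
    by_cases hdiv : p ∣ P.relIndex X
    · refine ⟨P, le_rfl, ?_, fun _ _ hBP => hBP⟩
      obtain ⟨R, hR⟩ := (hPp.of_equiv (Subgroup.subgroupOfEquivOfLe hPX).symm :
        IsPGroup p (P.subgroupOf X)).exists_le_sylow
      have hlt : P < (R : Subgroup X).map X.subtype := by
        refine lt_of_le_of_ne ?_ fun e => R.not_dvd_index ?_
        · rw [← Subgroup.map_subgroupOf_eq_of_le hPX]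
          exact Subgroup.map_mono hR
        · have e' : P.subgroupOf X = (R : Subgroup X) := by
            rw [e, Subgroup.subgroupOf,
              Subgroup.comap_map_eq_self_of_injective X.subtype_injective]
          rw [← e']
          exact hdiv
      have hlt' := Fusion.Alperin.lt_inf_normalizer (R.2.map _) hlt
      set P₁ := (R : Subgroup X).map X.subtype ⊓ Subgroup.normalizer (P : Set H) with hP₁
      have hP₁X : P₁ ≤ X := inf_le_left.trans (Subgroup.map_subtype_le _)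
      have hP₁M : ¬ P₁ ≤ M := by
        intro hle
        obtain ⟨P', hP', hc⟩ := move B P₁ Z hB (hBP.trans hlt'.le)
          ((R.2.map _).to_le inf_le_left) hle hZ hZM (hP₁X.trans hXZ)
        have h1 := hmax P' hP'
        have h2 : Nat.card P < Nat.card P₁ := by
          refine lt_of_le_of_ne (Subgroup.card_le_of_le hlt'.le) fun e => hlt'.ne ?_
          exact Subgroup.eq_of_le_of_card_ge hlt'.le e.ge
        omega
      have hX₁ : P₁ = X := by
        by_contra hne'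
        exact hP₁M (hsub P₁ hlt'.le hP₁X hne')
      exact hX₁.ge.trans inf_le_right
    · refine ⟨(Cfsg.pCore p X).map X.subtype, ?_, ?_,
        fun B hB hBP => hloc X P hX hXM hPX hPM hPp hdiv hsub B hB hBP⟩
      · have hP' : IsPGroup p (P.subgroupOf X) :=
          hPp.of_equiv (Subgroup.subgroupOfEquivOfLe hPX).symm
        have h1 : Cfsg.pCore p X ≤ P.subgroupOf X := Cores.pCore_le_sylow (hP'.toSylow hdiv)
        exact (Subgroup.map_mono h1).trans
          (Subgroup.map_subgroupOf_eq_of_le hPX).le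
      · intro x hx
        refine Subgroup.mem_normalizer_iff.2 fun y => ⟨?_, ?_⟩
        · rintro ⟨q, hq, rfl⟩
          exact ⟨⟨x, hx⟩ * q * ⟨x, hx⟩⁻¹, Subgroup.Normal.conj_mem inferInstance q hq _, rfl⟩
        · rintro ⟨q, hq, he⟩
          refine ⟨⟨x, hx⟩⁻¹ * q * ⟨x, hx⟩, Subgroup.Normal.conj_mem' inferInstance q hq _, ?_⟩
          change x⁻¹ * (q : H) * x = y
          rw [show (q : H) = x * y * x⁻¹ from he]
          group
  -- the members inside `P`
  set D : Subgroup H := ⨆ B : {B : Subgroup H // Φ B ∧ B ≤ P}, (B : Subgroup H) with hD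
  have hDP : D ≤ P := iSup_le fun B => B.2.2
  have hnorm : ∀ g : H, (∀ B, Φ B → B ≤ P → cjS g B ≤ P) →
      g ∈ Subgroup.normalizer (D : Set H) := by
    intro g hg
    have hle : cjS g D ≤ D := by
      rw [hD, cjS, Subgroup.map_iSup]
      exact iSup_le fun B => le_iSup_of_le ⟨cjS g B, hconj _ g B.2.1, hg _ B.2.1 B.2.2⟩ le_rfl
    exact Subgroup.mem_normalizer_iff_map_conj_eq.2
      (Subgroup.eq_of_le_of_card_ge hle (card_cjS g D).ge)
  have hXD : X ≤ Subgroup.normalizer (D : Set H) := fun x hx => hnorm x fun B' hB' hB'P => by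
    refine le_trans ?_ hQP
    rintro _ ⟨b, hb, rfl⟩
    exact (Subgroup.mem_normalizer_iff.1 (hQn hx) b).1 (hQ B' hB' hB'P hb)
  set P₂ := (T : Subgroup H) ⊓ Subgroup.normalizer (P : Set H) with hP₂
  have hP₂lt : P < P₂ := Fusion.Alperin.lt_inf_normalizer T.2 hPlt
  have hP₂D : P₂ ≤ Subgroup.normalizer (D : Set H) := fun x hx => hnorm x fun B' _ hB'P => by
    rintro _ ⟨b, hb, rfl⟩
    exact (Subgroup.mem_normalizer_iff.1 hx.2 b).1 (hB'P hb)
  have hDtop : Subgroup.normalizer (D : Set H) ≠ ⊤ := by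
    intro e
    have : D.Normal := Subgroup.normalizer_eq_top_iff.1 e
    have h1 : D ≤ Cfsg.pCore p H := Cores.le_pCore (hPp.to_le hDP)
    rw [hO] at h1
    have hBD : B ≤ D := le_iSup_of_le ⟨B, hB, hBP⟩ le_rfl
    exact hne B hB (le_bot_iff.1 (hBD.trans h1))
  obtain ⟨P', hP', hc⟩ := move B P₂ _ hB (hBP.trans hP₂lt.le) (T.2.to_le inf_le_left)
    (inf_le_left.trans h.sylow_le) hDtop (fun hle => hXM (hXD.trans hle)) hP₂D
  have h1 := hmax P' hP'
  have h2 : Nat.card P < Nat.card P₂ := by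
    refine lt_of_le_of_ne (Subgroup.card_le_of_le hP₂lt.le) fun e => hP₂lt.ne ?_
    exact Subgroup.eq_of_le_of_card_ge hP₂lt.le e.ge
  omega

end Cfsg.Agent.Lib.NoStrict
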