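import Cfsg.Agent.Lib.NoStrict.Descent

/-!
# A quadratic subgroup whose proper overgroups lie in `M`

`A` and any conjugate `gAg⁻¹` with `g ∉ M` generate `H`, so `C + gC` is `H`-invariant and contains
every conjugate of `C = C_W(A)`.  An element of `A` moving a vector of `gC` outside `C` only inside
`C_W(H)` lies in every conjugate of `M`, hence is trivial: `A` acts regularly, and
`|A| |C| ≤ |W|`.
-/

set_option autoImplicit false
set_option linter.unusedSectionVars false

namespace Cfsg.Agent.Lib.NoStrict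

open Cfsg.Agent.Lib.RankOneFF (fixW mem_fixW cjS mem_cjS conj_mem_cjS card_cjS mem_fixW_cjS
  card_fixW_cjS card_add_mul_card_inf)

variable {H : Type*} [Group H] [Finite H] {W : Type*} [AddCommGroup W] [DistribMulAction H W]
  {p : ℕ} [Fact p.Prime] {T : Sylow p H} {M : Subgroup H}

omit [Finite H] in
theorem fixed_of_sup {A B : Subgroup H} (h : A ⊔ B = ⊤) {w : W} (hA : w ∈ fixW W A)
    (hB : w ∈ fixW W B) (g : H) : g • w = w := by
  have h1 : A ⊔ B ≤ MulAction.stabilizer H w := sup_le (fun a ha => hA a ha) (fun b hb => hB b hb)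
  exact h1 (h ▸ Subgroup.mem_top g)

omit [Finite H] in
theorem stable_of_sup {A B : Subgroup H} (h : A ⊔ B = ⊤) {S : AddSubgroup W}
    (hA : ∀ a ∈ A, ∀ x ∈ S, a • x ∈ S) (hB : ∀ a ∈ B, ∀ x ∈ S, a • x ∈ S) (g : H) {x : W}
    (hx : x ∈ S) : g • x ∈ S := by
  have hg : g ∈ Subgroup.closure ((A : Set H) ∪ B) := by
    rw [← Subgroup.sup_eq_closure, h]; exact Subgroup.mem_top g
  revert x
  refine Subgroup.closure_induction'' (p := fun g _ => ∀ {x : W}, x ∈ S → g • x ∈ S)
    (fun a ha => ?_) (fun a ha => ?_) (fun {x} hx => by rwa [one_smul])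
    (fun a b _ _ ha hb {x} hx => by rw [mul_smul]; exact ha (hb hx)) hg
  · rcases ha with ha | ha
    · exact fun {x} hx => hA a ha x hx
    · exact fun {x} hx => hB a ha x hx
  · rcases ha with ha | ha
    · exact fun {x} hx => hA _ (A.inv_mem ha) x hx
    · exact fun {x} hx => hB _ (B.inv_mem ha) x hx

variable {A : Subgroup H}

/-- `A` and a conjugate outside generate everything. -/
theorem PMin.sup_eq_top (h : PMin p W T M) (hO : Cfsg.pCore p H = ⊥) (hA : IsPGroup p A)
    (hne : A ≠ ⊥) (hAM : A ≤ M) (honly : OnlyIn A M) {g : H} (hg : g ∉ M) :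
    A ⊔ cjS g A = ⊤ := by
  by_contra hn
  have h1 : cjS g A ≤ M := le_sup_right.trans (honly _ le_sup_left hn)
  have h2 : A ≤ cjS g⁻¹ M := fun a ha =>
    mem_cjS.2 (by rw [inv_inv]; exact h1 (conj_mem_cjS ha))
  have h3 : cjS g⁻¹ M ≤ M := honly _ h2 (cjS_ne_top _ h.ne_top)
  have hT : (T : Subgroup H) ≠ ⊥ := by
    intro e
    obtain ⟨m, -, hm⟩ := h.exists_conj_le hA hAM
    rw [e] at hm
    exact hne ((Subgroup.map_eq_bot_iff_of_injective A (MulAut.conj m).injective).1
      (le_bot_iff.1 hm))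
  exact hg (M.inv_mem_iff.1 (h.mem_of_normalizes hO hT (Subgroup.mem_normalizer_iff_map_conj_eq.2
    (Subgroup.eq_of_le_of_card_ge h3 (card_cjS g⁻¹ M).ge))))

section Quad

variable (h : PMin p W T M) (hO : Cfsg.pCore p H = ⊥) (hA : IsPGroup p A) (hne : A ≠ ⊥)
  (hAM : A ≤ M) (honly : OnlyIn A M) (hquad : ∀ a ∈ A, ∀ w : W, a • w - w ∈ fixW W A)

include h hO hA hne hAM honly hquad

/-- `C + gC` is invariant. -/
theorem PMin.stable {g : H} (hg : g ∉ M) (k : H) {x : W}
    (hx : x ∈ fixW W A ⊔ fixW W (cjS g A)) : k • x ∈ fixW W A ⊔ fixW W (cjS g A) := by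
  refine stable_of_sup (h.sup_eq_top hO hA hne hAM honly hg) ?_ ?_ k hx
  · intro a ha x hx
    obtain ⟨c, hc, c', hc', rfl⟩ := AddSubgroup.mem_sup.1 hx
    rw [smul_add, hc a ha, show c + a • c' = (c + (a • c' - c')) + c' by abel]
    exact AddSubgroup.mem_sup.2 ⟨_, add_mem hc (hquad a ha c'), _, hc', rfl⟩
  · intro a ha x hx
    obtain ⟨c, hc, c', hc', rfl⟩ := AddSubgroup.mem_sup.1 hx
    rw [smul_add, hc' a ha]
    refine AddSubgroup.mem_sup.2 ⟨c, hc, (a • c - c) + c', add_mem ?_ hc', by abel⟩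
    rw [mem_fixW_cjS]
    have h1 := hquad _ (mem_cjS.1 ha) (g⁻¹ • c)
    rwa [mul_smul, mul_smul, smul_inv_smul, ← smul_sub] at h1

/-- An element of `A` moving a vector of `gC` outside `C` only inside `C_W(H)` is trivial. -/
theorem PMin.eq_one {g : H} (hg : g ∉ M) {w : W} (hw : w ∈ fixW W (cjS g A))
    (hwC : w ∉ fixW W A) {a : H} (ha : a ∈ A) (hz : ∀ k : H, k • (a • w - w) = a • w - w) :
    a = 1 := by
  have hall : ∀ k : H, k⁻¹ * a * k ∈ M := by
    intro k
    by_cases hk : k ∈ M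
    · exact M.mul_mem (M.mul_mem (M.inv_mem hk) (hAM ha)) hk
    by_contra hak
    have hws : w ∈ fixW W A ⊔ fixW W (cjS k A) := by
      have h1 : g⁻¹ • w ∈ fixW W A ⊔ fixW W (cjS k A) :=
        AddSubgroup.mem_sup_left (mem_fixW_cjS.1 hw)
      have h2 := h.stable hO hA hne hAM honly hquad hk g h1
      rwa [smul_inv_smul] at h2
    obtain ⟨c, hc, w', hw', rfl⟩ := AddSubgroup.mem_sup.1 hws
    have h1 : a • w' = (a • (c + w') - (c + w')) + w' := by rw [smul_add, hc a ha]; abel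
    have h2 : a • w' ∈ fixW W (cjS k A) := by
      rw [h1]
      exact add_mem (fun x _ => hz x) hw'
    have hg' : (k⁻¹ * a⁻¹ * k) ∉ M := fun hm => hak (by
      have := M.inv_mem hm
      rwa [show (k⁻¹ * a⁻¹ * k)⁻¹ = k⁻¹ * a * k by group] at this)
    have htop := h.sup_eq_top hO hA hne hAM honly hg'
    have htop' : cjS k A ⊔ cjS a⁻¹ (cjS k A) = ⊤ := by
      have := congrArg (cjS k) htop
      simp only [cjS] at this
      rw [Subgroup.map_sup, Subgroup.map_top_of_surjective (MulAut.conj k).toMonoidHom (MulAut.conj k).surjective] at this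
      rw [cjS_cjS]
      rw [show Subgroup.map (MulAut.conj k).toMonoidHom (Subgroup.map (MulAut.conj (k⁻¹ * a⁻¹ * k)).toMonoidHom A)
        = cjS (k * (k⁻¹ * a⁻¹ * k)) A from cjS_cjS _ _ _,
        show k * (k⁻¹ * a⁻¹ * k) = a⁻¹ * k by group] at this
      exact this
    have h3 : w' ∈ fixW W (cjS a⁻¹ (cjS k A)) := mem_fixW_cjS.2 (by rwa [inv_inv])
    refine hwC (add_mem hc fun x _ => ?_)
    exact fixed_of_sup htop' hw' h3 x
  have h1 : Subgroup.zpowers a ≤ M.normalCore := by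
    rw [Subgroup.zpowers_le]
    intro k
    have := hall k⁻¹
    rwa [inv_inv] at this
  have h2 := h.eq_bot_of_le_normal hO M.normalCore_le (hA.to_le (Subgroup.zpowers_le.2 ha)) h1
  rwa [Subgroup.zpowers_eq_bot] at h2

/-- Some vector fixed by a conjugate is moved by `A`. -/
theorem PMin.exists_moved {g : H} (hg : g ∉ M) :
    ∃ w ∈ fixW W (cjS g A), w ∉ fixW W A := by
  by_contra hcon
  push Not at hcon
  obtain ⟨u, hu, k, hk⟩ := h.moved
  obtain ⟨m, -, hm⟩ := h.exists_conj_le hA hAM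
  have h1 : m⁻¹ • u ∈ fixW W A := mem_fixW_cjS.1 fun a ha => hu a (hm ha)
  have h2 : g • m⁻¹ • u ∈ fixW W (cjS g A) := by rwa [mem_fixW_cjS, inv_smul_smul]
  have h3 := fixed_of_sup (h.sup_eq_top hO hA hne hAM honly hg) (hcon _ h2) h2
  refine hk ?_
  have h4 : u = (g * m⁻¹) • u := by
    have := h3 (g * m⁻¹)⁻¹
    rw [← mul_smul, ← mul_smul, mul_assoc, inv_mul_cancel, one_smul] at this
    rw [mul_smul]; exact this
  calc k • u = k • ((g * m⁻¹) • u) := by rw [← h4]
    _ = (g * m⁻¹) • u := by rw [mul_smul]; exact h3 k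
    _ = u := h4.symm

/-- `|A| |C_W(A)| ≤ |W|`. -/
theorem PMin.card_mul_le [Finite W] : Nat.card A * Nat.card (fixW W A) ≤ Nat.card W := by
  obtain ⟨g, -, hg⟩ := SetLike.exists_of_lt (lt_top_iff_ne_top.2 h.ne_top)
  obtain ⟨w, hw, hwC⟩ := h.exists_moved hO hA hne hAM honly hquad hg
  set C := fixW W A with hC
  set C' := fixW W (cjS g A) with hC'
  have htop := h.sup_eq_top hO hA hne hAM honly hg
  have hinj : Function.Injective (fun x : A × ↥(C ⊓ C') =>
      (⟨(x.1 : H) • w - w + (x.2 : W), C.add_mem (hquad _ x.1.2 w) x.2.2.1⟩ : C)) := by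
    rintro ⟨⟨a, ha⟩, z⟩ ⟨⟨b, hb⟩, z'⟩ he
    have he' : a • w - w + (z : W) = b • w - w + (z' : W) := congrArg Subtype.val he
    have hfix : ∀ (x : ↥(C ⊓ C')) (k : H), k • (x : W) = x := fun x =>
      fixed_of_sup htop x.2.1 x.2.2
    have h1 : (b⁻¹ * a) • w - w = ((z' - z : ↥(C ⊓ C')) : W) := by
      have h0 : a • w = b • w + (((z' - z : ↥(C ⊓ C')) : W)) := by
        rw [AddSubgroupClass.coe_sub]
        calc a • w = (a • w - w + (z : W)) + (w - (z : W)) := by abel
          _ = (b • w - w + (z' : W)) + (w - (z : W)) := by rw [he']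
          _ = _ := by abel
      rw [mul_smul, h0, smul_add, inv_smul_smul, hfix]
      abel
    have h2 : b⁻¹ * a = 1 := h.eq_one hO hA hne hAM honly hquad hg hw hwC
      (A.mul_mem (A.inv_mem hb) ha) fun k => by rw [h1]; exact hfix _ k
    obtain rfl : b = a := inv_mul_eq_one.1 h2
    obtain rfl : z = z' := Subtype.ext (add_left_cancel he')
    rfl
  have h1 := Nat.card_le_card_of_injective _ hinj
  rw [Nat.card_prod] at h1
  have h2 := card_add_mul_card_inf C C'
  rw [show Nat.card C' = Nat.card C from card_fixW_cjS g A] at h2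
  have h3 : Nat.card ((C.subtype.coprod C'.subtype).range) ≤ Nat.card W :=
    AddSubgroup.card_le_card_addGroup _
  refine Nat.le_of_mul_le_mul_right (c := Nat.card ↥(C ⊓ C')) ?_ Nat.card_pos
  calc Nat.card A * Nat.card C * Nat.card ↥(C ⊓ C')
      = Nat.card A * Nat.card ↥(C ⊓ C') * Nat.card C := by ring
    _ ≤ Nat.card C * Nat.card C := Nat.mul_le_mul_right _ h1
    _ ≤ Nat.card W * Nat.card ↥(C ⊓ C') := h2.le.trans (Nat.mul_le_mul_right _ h3)

end Quad

end Cfsg.Agent.Lib.NoStrict
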